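import Groth.Agent.QCohBase.CechIso
import Mathlib.Algebra.Homology.ShortComplex.Ab

/-! # Classes of Cech cocycles of a presheaf -/

set_option autoImplicit false

noncomputable section

universe u

open CategoryTheory Limits TopologicalSpace Opposite

namespace Groth.Agent.CechTotLib

open QCohBase

variable {X : TopCat.{u}} {ι : Type u} (U : ι → Opens X) (P : TopCat.Presheaf AddCommGrpCat.{u} X)

theorem exists_cechClass (p : ℕ) : ∃ cls : ((cech U P).d p (p + 1)).hom.ker →+ CohB1.cechHTop U P p,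
    ∀ z, cls z = 0 → (p = 0 ∧ z.1 = 0) ∨ ∃ (p' : ℕ) (h : p' + 1 = p) (x : cochain U P (Fin (p' + 1))),
      (cech U P).d p' p x = z.1 := by
  let i := (ComplexShape.up ℕ).prev p
  let T := (cech U P).sc' i p (p + 1)
  let e : CohB1.cechHTop U P p ≅ AddCommGrpCat.of (T.g.hom.ker ⧸ T.abToCycles.range) :=
    cechHTopIso U P p ≪≫ (cech U P).homologyIsoSc' i p (p + 1) rfl (by simp) ≪≫ T.abHomologyIso
  refine ⟨e.inv.hom.comp (QuotientAddGroup.mk' T.abToCycles.range), fun z hz => ?_⟩
  have h0 : (QuotientAddGroup.mk' T.abToCycles.range) z = 0 :=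
    e.addCommGroupIsoToAddEquiv.symm.injective (hz.trans (map_zero _).symm)
  obtain ⟨x, hx⟩ := (QuotientAddGroup.eq_zero_iff _).1 h0
  have hx' : (cech U P).d i p x = z.1 := congrArg Subtype.val hx
  rcases p with _ | p
  · refine Or.inl ⟨rfl, hx'.symm.trans ?_⟩
    rw [(cech U P).shape i 0 (by simp)]
    rfl
  · refine Or.inr ⟨p, rfl, ?_⟩
    have hi : i = p := CochainComplex.prev_nat_succ p
    have key : ∀ (j : ℕ) (y : (cech U P).X j), (cech U P).d j (p + 1) y = z.1 → j = p →
        ∃ x, (cech U P).d p (p + 1) x = z.1 := by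
      rintro j y hy rfl
      exact ⟨y, hy⟩
    exact key i x hx' hi

end Groth.Agent.CechTotLib
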