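import Groth.Prelude.Def_CohCx
import Groth.Agent.CohTopLib.Basic
import Groth.Agent.CohTopLib.DerivedHom
import Mathlib.Algebra.Homology.HomotopyCategory.KInjective
import Mathlib.Algebra.Homology.Factorizations.CM5a

/-! # Hypercohomology classes of cycles of sections -/

set_option autoImplicit false
set_option backward.isDefEq.respectTransparency false

noncomputable section

universe u

open CategoryTheory Limits TopologicalSpace Opposite DerivedCategory

namespace Groth.Agent.CechTotLib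

open CohTopLib

variable {X : TopCat.{u}} [HasDerivedCategory.{u} (CohTop.Ab X)]
  (M : CochainComplex (CohTop.Ab X) ℤ)

/-- the differential on sections -/
abbrev dSec (q q' : ℤ) (V : Opens X) : (M.X q).obj.obj (op V) →+ (M.X q').obj.obj (op V) :=
  ((M.d q q').hom.app (op V)).hom

variable {M} {K₀ : DerivedCategory (CohTop.Ab X)} {m : ℤ}

lemma exists_cls_zero [M.IsKInjective]
    (ψ : (shiftFunctor (DerivedCategory (CohTop.Ab X)) (0 : ℤ)).obj (Q.obj M) ≅
      (shiftFunctor (DerivedCategory (CohTop.Ab X)) m).obj K₀) :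
    ∃ Φ : ∀ V : Opens X, (dSec M 0 1 V).ker →+ CohCx.HDU K₀ m V,
      (∀ V, Function.Surjective (Φ V)) ∧ (∀ V z, Φ V z = 0 ↔ ∃ x, dSec M (-1) 0 V x = z.1) ∧
      ∀ (V W : Opens X) (h : W ≤ V) (z : (dSec M 0 1 V).ker) (z' : (dSec M 0 1 W).ker),
        (M.X 0).obj.map (homOfLE h).op z.1 = z'.1 → CohCx.HDUres K₀ m (homOfLE h) (Φ V z) = Φ W z' := by
  have hd : ∀ (V : Opens X) (z : (dSec M 0 1 V).ker), (secEquiv (M.X 0) V).symm z.1 ≫ M.d 0 1 = 0 :=
    fun V z => (secHom_bijective (M.X 1) V).1 (by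
      refine Eq.trans ?_ ((z.2 : dSec M 0 1 V z.1 = 0).trans (map_zero (secHom (M.X 1) V)).symm)
      exact congrArg ((M.d 0 1).hom.app (op V)) ((secEquiv (M.X 0) V).apply_symm_apply z.1))
  refine ⟨fun V => AddMonoidHom.mk' (fun z => dOf _ (hd V z) ≫ ψ.hom) fun a b => ?_, fun V ξ => ?_,
    fun V z => ⟨fun hz => ?_, ?_⟩, fun V W h z z' hz => ?_⟩
  · have hab : ((secEquiv (M.X 0) V).symm a.1 + (secEquiv (M.X 0) V).symm b.1) ≫ M.d 0 1 = 0 := by
      rw [Preadditive.add_comp, hd, hd, add_zero]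
    refine Eq.trans ?_ (Preadditive.add_comp ..)
    refine congrArg (· ≫ ψ.hom) (Eq.trans ?_ (dOf_add _ _ (hd V a) (hd V b) hab))
    congr 1
    exact map_add (secEquiv (M.X 0) V).symm a.1 b.1
  · obtain ⟨φ, hφ, e⟩ := dOf_surjective (ξ ≫ ψ.inv)
    refine ⟨⟨secHom (M.X 0) V φ, congrArg (secHom (M.X 1) V) hφ |>.trans (map_zero _)⟩, ?_⟩
    show dOf _ _ ≫ ψ.hom = ξ
    have : dOf _ (hd V ⟨secHom (M.X 0) V φ, congrArg (secHom (M.X 1) V) hφ |>.trans (map_zero _)⟩) = dOf φ hφ := by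
      congr 1
      exact (secEquiv (M.X 0) V).symm_apply_apply φ
    rw [this, e, Category.assoc, Iso.inv_hom_id, Category.comp_id]
  · obtain ⟨g, hg⟩ := exists_boundary_of_dOf_eq_zero _ (hd V z)
      ((cancel_mono ψ.hom).1 (hz.trans zero_comp.symm))
    exact ⟨secHom (M.X (-1)) V g, (congrArg (secHom (M.X 0) V) hg).trans ((secEquiv (M.X 0) V).apply_symm_apply z.1)⟩
  · rintro ⟨x, hx⟩
    obtain ⟨g, rfl⟩ := (secHom_bijective (M.X (-1)) V).2 x
    have hg : g ≫ M.d (-1) 0 = (secEquiv (M.X 0) V).symm z.1 :=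
      ((secEquiv (M.X 0) V).symm_apply_eq.2 hx.symm).symm
    refine (congrArg (· ≫ ψ.hom) ?_).trans zero_comp
    refine Eq.trans ?_ (dOf_eq_zero_of_boundary g (by rw [hg]; exact hd V z))
    congr 1
    exact hg.symm
  · show (singleFunctor (CohTop.Ab X) 0).map (freeMap h) ≫ dOf _ (hd V z) ≫ ψ.hom = dOf _ (hd W z') ≫ ψ.hom
    rw [← Category.assoc, map_comp_dOf (freeMap h) _ (hd V z) (by rw [Category.assoc, hd, comp_zero])]
    refine congrArg (· ≫ ψ.hom) ?_
    congr 1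
    refine (secHom_bijective (M.X 0) W).1 ?_
    rw [secHom_freeMap]
    refine Eq.trans ?_ ((secEquiv (M.X 0) W).apply_symm_apply z'.1).symm
    refine Eq.trans ?_ hz
    exact congrArg ((M.X 0).obj.map (homOfLE h).op) ((secEquiv (M.X 0) V).apply_symm_apply z.1)

variable (M)

lemma exists_cls' (b : ℤ) [M.IsStrictlyGE b] (hinj : ∀ i, Injective (M.X i)) {a : ℤ}
    (e : Q.obj M ≅ (shiftFunctor (DerivedCategory (CohTop.Ab X)) a).obj K₀)
    (s q q₁ q₀ : ℤ) (hq : 0 + s = q) (h₁ : 1 + s = q₁) (h₀ : -1 + s = q₀) (hm : a + s = m) :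
    ∃ Φ : ∀ V : Opens X, (dSec M q q₁ V).ker →+ CohCx.HDU K₀ m V,
      (∀ V, Function.Surjective (Φ V)) ∧ (∀ V z, Φ V z = 0 ↔ ∃ x, dSec M q₀ q V x = z.1) ∧
      ∀ (V W : Opens X) (h : W ≤ V) (z : (dSec M q q₁ V).ker) (z' : (dSec M q q₁ W).ker),
        (M.X q).obj.map (homOfLE h).op z.1 = z'.1 → CohCx.HDUres K₀ m (homOfLE h) (Φ V z) = Φ W z' := by
  subst hq h₁ h₀
  let M' := (shiftFunctor (CochainComplex (CohTop.Ab X) ℤ) s).obj M
  haveI : M'.IsStrictlyGE (b - s) := M.isStrictlyGE_shift b s (b - s) (by omega)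
  haveI : ∀ i, Injective (M'.X i) := fun i => hinj (i + s)
  haveI : M'.IsKInjective := CochainComplex.isKInjective_of_injective M' (b - s)
  let ψ : (shiftFunctor (DerivedCategory (CohTop.Ab X)) (0 : ℤ)).obj (Q.obj M') ≅
      (shiftFunctor (DerivedCategory (CohTop.Ab X)) m).obj K₀ :=
    (shiftFunctorZero (DerivedCategory (CohTop.Ab X)) ℤ).app _ ≪≫ (Q.commShiftIso s).app M ≪≫
      (shiftFunctor (DerivedCategory (CohTop.Ab X)) s).mapIso e ≪≫
      ((shiftFunctorAdd' (DerivedCategory (CohTop.Ab X)) a s m hm).app K₀).symm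
  obtain ⟨Φ, hs, hk, hn⟩ := exists_cls_zero ψ
  have hsign : ∀ (i j : ℤ) (V : Opens X) (x : (M.X (i + s)).obj.obj (op V)),
      dSec M' i j V x = (s.negOnePow : ℤ) • dSec M (i + s) (j + s) V x := fun i j V x => by
    show ((M'.d i j).hom.app (op V)) x = _
    rw [CochainComplex.shiftFunctor_obj_d']
    rfl
  have hker : ∀ (i j : ℤ) (V : Opens X) (x : (M.X (i + s)).obj.obj (op V)),
      dSec M' i j V x = 0 ↔ dSec M (i + s) (j + s) V x = 0 := fun i j V x => by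
    rw [hsign]
    refine ⟨fun h => ?_, fun h => by rw [h, smul_zero]⟩
    have := congrArg ((s.negOnePow : ℤ) • ·) h
    simpa [smul_smul, ← Units.val_mul, Int.units_mul_self] using this
  refine ⟨fun V => (Φ V).comp (AddMonoidHom.mk'
      (fun z => (⟨z.1, (hker 0 1 V z.1).2 z.2⟩ : (dSec M' 0 1 V).ker)) fun _ _ => rfl), fun V ξ => ?_,
    fun V z => (hk V _).trans ⟨fun ⟨x, hx⟩ => ?_, fun ⟨x, hx⟩ => ?_⟩, fun V W h z z' hz => hn V W h _ _ hz⟩
  · obtain ⟨z, hz⟩ := hs V ξ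
    exact ⟨⟨z.1, (hker 0 1 V z.1).1 z.2⟩, hz⟩
  · refine ⟨(s.negOnePow : ℤ) • x, ?_⟩
    rw [map_zsmul]
    exact (hsign (-1) 0 V x).symm.trans hx
  · refine ⟨(s.negOnePow : ℤ) • x, (hsign (-1) 0 V _).trans ?_⟩
    rw [map_zsmul, smul_smul, ← Units.val_mul, Int.units_mul_self, Units.val_one, one_smul]
    exact hx

/-- classes of cycles of sections of an injective model -/
theorem exists_cls (b : ℤ) [M.IsStrictlyGE b] (hinj : ∀ i, Injective (M.X i)) {a : ℤ}
    (e : Q.obj M ≅ (shiftFunctor (DerivedCategory (CohTop.Ab X)) a).obj K₀) (q : ℤ) (hm : a + q = m) :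
    ∃ Φ : ∀ V : Opens X, (dSec M q (q + 1) V).ker →+ CohCx.HDU K₀ m V,
      (∀ V, Function.Surjective (Φ V)) ∧ (∀ V z, Φ V z = 0 ↔ ∃ x, dSec M (q - 1) q V x = z.1) ∧
      ∀ (V W : Opens X) (h : W ≤ V) (z : (dSec M q (q + 1) V).ker) (z' : (dSec M q (q + 1) W).ker),
        (M.X q).obj.map (homOfLE h).op z.1 = z'.1 → CohCx.HDUres K₀ m (homOfLE h) (Φ V z) = Φ W z' :=
  exists_cls' M b hinj e q q (q + 1) (q - 1) (zero_add q) (add_comm 1 q) (by omega) hm

/-- a bounded below complex has an injective model in non negative degrees after a shift -/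
theorem exists_model (K : CochainComplex (CohTop.Ab X) ℤ) (a : ℤ) (ha : ∀ i : ℤ, i < a → IsZero (K.X i)) :
    ∃ M : CochainComplex (CohTop.Ab X) ℤ, M.IsStrictlyGE 0 ∧ (∀ i, Injective (M.X i)) ∧
      Nonempty (Q.obj M ≅ (shiftFunctor (DerivedCategory (CohTop.Ab X)) a).obj (Q.obj K)) := by
  haveI : K.IsStrictlyGE a := (CochainComplex.isStrictlyGE_iff K a).2 ha
  let K' := (shiftFunctor (CochainComplex (CohTop.Ab X) ℤ) a).obj K
  haveI : K'.IsStrictlyGE 0 := K.isStrictlyGE_shift a a 0 (by omega)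
  obtain ⟨L, i, hi, hL, hge⟩ := CochainComplex.Plus.modelCategoryQuillen.exists_quasiIso_injective K' 0
  exact ⟨L, hge, hL, ⟨(asIso (Q.map i)).symm ≪≫ (Q.commShiftIso a).app K⟩⟩

end Groth.Agent.CechTotLib
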