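import Groth.Agent.CechTotLib.Classes
import Groth.Agent.FibDescLib.Transfer
import Groth.Agent.Descent.PiCx
import Groth.Agent.QCohBase.Criterion

/-! # The augmented Cech double complex of a complex of sheaves -/

set_option autoImplicit false
set_option backward.isDefEq.respectTransparency false

noncomputable section

universe u

open CategoryTheory Limits TopologicalSpace Opposite

namespace Groth.Agent.CechTotLib

open QCohBase ColSS

variable {X : TopCat.{u}} {ι : Type u} (U : ι → Opens X) (M : CochainComplex (CohTop.Ab X) ℤ)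

/-- sections of the complex -/
abbrev secC (V : Opens X) : CochainComplex AddCommGrpCat.{u} ℤ :=
  (CohCx.sectCx (Opens.grothendieckTopology X) V).obj M

lemma secC_d_apply (V : Opens X) (q q' : ℤ) (x : (M.X q).obj.obj (op V)) :
    (secC M V).d q q' x = (M.d q q').hom.app (op V) x := rfl

/-- the columns -/
def colK : ℕ → CochainComplex AddCommGrpCat.{u} ℤ
  | 0 => secC M ⊤
  | p + 1 => Descent.piCx fun c : Fin (p + 1) → ι => secC M (inter U c)

/-- the horizontal maps -/
def colH : ∀ p, colK U M p ⟶ colK U M (p + 1)
  | 0 =>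
    { f := fun q => AddCommGrpCat.ofHom
        (AddMonoidHom.mk' (fun s => (fun c => res (M.X q).obj (le_top : inter U c ≤ ⊤) s :
          ∀ c : Fin 1 → ι, (M.X q).obj.obj (op (inter U c)))) fun _ _ => funext fun _ => map_add _ _ _)
      comm' := fun q q' _ => AddCommGrpCat.ext fun s => funext fun c =>
        (nat_res _ (M.d q q').hom (le_top : inter U c ≤ ⊤) s).symm }
  | p + 1 =>
    { f := fun q => AddCommGrpCat.ofHom
        (AddMonoidHom.mk' (fun s => dCech U (M.X q).obj p s) fun s t => by
          refine (cech_d_apply U (M.X q).obj p (s + t)).symm.trans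
            ((map_add ((cech U (M.X q).obj).d p (p + 1)).hom s t).trans ?_)
          exact congrArg₂ (· + ·) (cech_d_apply U (M.X q).obj p s) (cech_d_apply U (M.X q).obj p t))
      comm' := fun q q' _ => AddCommGrpCat.ext fun s =>
        (show (fun i => (M.d q q').hom.app _ (dCech U (M.X q).obj p s i)) =
            dCech U (M.X q').obj p (fun i => (M.d q q').hom.app _ (s i)) from
          (dCech_map U (M.d q q').hom p s).symm) }

lemma colH_succ_apply (p : ℕ) (q : ℤ) (s : cochain U (M.X q).obj (Fin (p + 1))) :
    (colH U M (p + 1)).f q s = dCech U (M.X q).obj p s := rfl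

lemma colH_colH : ∀ p, colH U M p ≫ colH U M (p + 1) = 0
  | 0 => HomologicalComplex.hom_ext _ _ fun q => AddCommGrpCat.ext fun s => funext fun c =>
      (dCech_zero_apply U _ c).trans (sub_eq_zero.2 ((res_res _ _ _ _).trans (res_res _ _ _ _).symm))
  | p + 1 => HomologicalComplex.hom_ext _ _ fun q => AddCommGrpCat.ext fun s => dCech_dCech U p s

variable [M.IsStrictlyGE 0]

lemma subsingleton_sections (q : ℤ) (hq : q < 0) (V : Opens X) : Subsingleton ((M.X q).obj.obj (op V)) := by
  refine AddCommGrpCat.subsingleton_of_isZero ?_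
  exact (sheafToPresheaf _ _ ⋙ (evaluation (Opens X)ᵒᵖ AddCommGrpCat.{u}).obj (op V)).map_isZero
    (CochainComplex.isZero_of_isStrictlyGE M 0 q hq)

lemma colK_ge : ∀ p, (colK U M p).IsStrictlyGE 0
  | 0 => by
    rw [CochainComplex.isStrictlyGE_iff]
    intro i hi
    haveI := subsingleton_sections M i hi ⊤
    exact @AddCommGrpCat.isZero_of_subsingleton _ (inferInstanceAs (Subsingleton ((M.X i).obj.obj (op ⊤))))
  | p + 1 => by
    refine Descent.isStrictlyGE_piCx _ 0 fun c => ?_
    rw [CochainComplex.isStrictlyGE_iff]
    intro i hi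
    haveI := subsingleton_sections M i hi (inter U c)
    exact @AddCommGrpCat.isZero_of_subsingleton _
      (inferInstanceAs (Subsingleton ((M.X i).obj.obj (op (inter U c)))))

/-- the augmented double complex -/
def secCols : Cols.{u} where
  K := colK U M
  ge := colK_ge U M
  dh := colH U M
  dh_dh := colH_colH U M

variable {U M}

/-- the augmented double complex of injectives is exact -/
theorem tExact_secCols (hcov : iSup U = ⊤) (hac : ∀ q, CechAcyclic U (M.X q).obj) :
    FibDescLib.TExact (secCols U M) := fun n x hx hD => by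
  have hk : ∀ k : ι, U k ≤ inter U (fun _ : Fin 1 => k) := fun k => le_iInf fun _ => le_rfl
  refine Cols.exists_primitive_of_rows (secCols U M) (fun q s t hst => ?_) (fun p q y hy => ?_) n x hx hD
  · refine TopCat.Sheaf.eq_of_locally_eq' (M.X q) U _ (fun k => homOfLE le_top) hcov.ge s t fun k => ?_
    exact ((res_res (M.X q).obj _ _ _).symm.trans (congrArg (res (M.X q).obj (hk k))
      (congrFun hst (fun _ => k)))).trans (res_res (M.X q).obj _ _ _)
  · rcases p with _ | p
    · obtain ⟨v, hv⟩ := cocycle_zero_glue U (M.X q) hcov y hy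
      exact ⟨v, funext fun c => hv c le_top⟩
    · obtain ⟨t, ht⟩ := (exactAt_succ_iff U (M.X q).obj p).1 (hac q p) y hy
      exact ⟨t, ht⟩

end Groth.Agent.CechTotLib
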