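import Groth.Prelude.Def_HTor
import Groth.Prelude.Def_CohB1
import Groth.Agent.CechTotLib.SecCols
import Groth.Agent.CechTotLib.CechClass

/-! # The filtration of hypercohomology by the Cech degree -/

set_option autoImplicit false
set_option backward.isDefEq.respectTransparency false

noncomputable section

universe u

open CategoryTheory Limits TopologicalSpace Opposite

namespace Groth.Agent.CechTotLib

open QCohBase ColSS FibDescLib

/-- a quotient with a map of small kernel is a subquotient -/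
lemma isSubquotient_of_ker_le {A N T : Type u} [AddCommGroup A] [AddCommGroup N] [AddCommGroup T]
    (f : A →+ N) (hf : Function.Surjective f) (Ψ : A →+ T) (h : Ψ.ker ≤ f.ker) :
    HTor.IsSubquotient ℤ N T := by
  let S := AddSubgroup.toIntSubmodule (f.ker.map Ψ)
  let S' := AddSubgroup.toIntSubmodule Ψ.range
  refine ⟨S, S', fun x hx => ?_, ?_⟩
  · obtain ⟨a, -, rfl⟩ := hx
    exact ⟨a, rfl⟩
  · let g : A →+ (↥S' ⧸ Submodule.comap S'.subtype S) :=
      (Submodule.mkQ (Submodule.comap S'.subtype S)).toAddMonoidHom.comp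
        (AddMonoidHom.mk' (fun a => (⟨Ψ a, a, rfl⟩ : S')) fun a b => Subtype.ext (map_add Ψ a b))
    have hg : Function.Surjective g := fun y => by
      obtain ⟨⟨x, a, rfl⟩, rfl⟩ := Submodule.mkQ_surjective _ y
      exact ⟨a, rfl⟩
    have hker : f.ker = g.ker := by
      ext a
      refine ⟨fun ha => (Submodule.Quotient.mk_eq_zero _).2 ⟨a, ha, rfl⟩, fun ha => ?_⟩
      obtain ⟨b, hb, hab⟩ := (Submodule.Quotient.mk_eq_zero _).1 ha
      have : a - b ∈ f.ker := h (show Ψ (a - b) = 0 by rw [map_sub, sub_eq_zero]; exact hab.symm)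
      simpa using add_mem this hb
    exact ⟨(((QuotientAddGroup.quotientKerEquivOfSurjective f hf).symm.trans
      (QuotientAddGroup.quotientAddEquivOfEq hker)).trans
        (QuotientAddGroup.quotientKerEquivOfSurjective g hg)).toIntLinearEquiv⟩

variable {X : TopCat.{u}} [HasDerivedCategory.{u} (CohTop.Ab X)] {ι : Type u} (U : ι → Opens X)
  (M : CochainComplex (CohTop.Ab X) ℤ) [M.IsStrictlyGE 0] (k : ℤ)

/-- families which are closed in the columns `≤ p` -/
def MT (p : ℕ) : AddSubgroup (secCols U M).Pre :=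
  (secCols U M).sub ⊤ k ⊓ (Low (secCols U M) (p + 1)).comap (secCols U M).D

variable {U M k}

lemma MT_top {p : ℕ} (T : MT U M k p) : dSec M k (k + 1) ⊤ (T.1 0 k) = 0 := by
  have h : (secCols U M).D T.1 0 (k + 1) = 0 := T.2.2 0 (k + 1) (Nat.succ_pos p)
  have e := D_at_low (mem_low_zero T.1) k (k + 1) rfl
  rw [h] at e
  have hz : ((secCols U M).K 0).d k (k + 1) (T.1 0 k) = 0 := by simpa using e.symm
  exact hz

variable (U M k) in
/-- the component in the corner -/
def topComp (p : ℕ) : MT U M k p →+ (dSec M k (k + 1) ⊤).ker :=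
  AddMonoidHom.mk' (fun T => ⟨T.1 0 k, MT_top T⟩) fun _ _ => rfl

lemma leading_closed {p : ℕ} (T : MT U M k p) (q : ℤ) (c : Fin (p + 1) → ι) :
    dSec M q (q + 1) (inter U c) ((secCols U M).D T.1 (p + 1) q c) = 0 := by
  have e := D_at_low (k := p + 1) (s := (secCols U M).D T.1) T.2.2 q (q + 1) rfl
  rw [Cols.D_D, Units.smul_def] at e
  have e' := congrArg ((((-((p + 1 : ℕ) : ℤ)).negOnePow : ℤˣ) : ℤ) • ·) e.symm
  simp only [Pi.zero_apply, smul_zero, smul_smul, ← Units.val_mul, Int.units_mul_self, Units.val_one,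
    one_smul] at e'
  exact congrFun e' c

/-- **The filtration of hypercohomology by the Čech degree.** -/
theorem exists_filtration (hcov : iSup U = ⊤) (hinj : ∀ i, Injective (M.X i)) {K₀ : DerivedCategory (CohTop.Ab X)}
    {a : ℤ} (e : DerivedCategory.Q.obj M ≅ (shiftFunctor (DerivedCategory (CohTop.Ab X)) a).obj K₀)
    (n : ℤ) (hn : a + k = n) :
    ∃ (N : ℕ) (G : ℕ → Submodule ℤ (CohCx.HDU K₀ n (⊤ : Opens X))),
      Antitone G ∧ G 0 = ⊤ ∧ G N = ⊥ ∧
      G 1 = ⨅ i, AddSubgroup.toIntSubmodule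
        (CohCx.HDUres K₀ n (homOfLE le_top : U i ⟶ (⊤ : Opens X))).ker ∧
      ∀ p : ℕ, HTor.IsSubquotient ℤ (HTor.grDesc G p) (CohB1.cechHTop U (CohCx.HDUPresheaf K₀ (n - p)) p) := by
  classical
  haveI := hinj
  obtain ⟨Φ, hΦs, hΦk, hΦn⟩ := exists_cls M 0 hinj e k hn
  let C := secCols U M
  have hex : TExact C := tExact_secCols hcov fun q => cechAcyclic_of_injective U (M.X q)
  let γ : ∀ p, MT U M k p →+ CohCx.HDU K₀ n (⊤ : Opens X) := fun p => (Φ ⊤).comp (topComp U M k p)
  let G : ℕ → Submodule ℤ (CohCx.HDU K₀ n (⊤ : Opens X)) := fun p => AddSubgroup.toIntSubmodule (γ p).range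
  have hmono : ∀ p q, p ≤ q → MT U M k q ≤ MT U M k p := fun p q h T hT =>
    ⟨hT.1, fun p' q' h' => hT.2 p' q' (by omega)⟩
  have hanti : Antitone G := fun p q h ξ hξ => by
    obtain ⟨T, rfl⟩ := hξ
    exact ⟨⟨T.1, hmono p q h T.2⟩, rfl⟩
  -- every class is represented in the corner
  have hcorner : ∀ z : (dSec M k (k + 1) ⊤).ker, C.single 0 k z.1 ∈ MT U M k 0 := fun z => by
    have hm : C.single 0 k z.1 ∈ C.sub ⊤ k := C.single_mem (by simp) _
    refine AddSubgroup.mem_inf.2 ⟨hm, AddSubgroup.mem_comap.2 (low_succ (mem_low_zero _) (C.D_mem hm) (k + 1)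
      (by simp) ?_)⟩
    rw [D_at_low (mem_low_zero _) k (k + 1) rfl, C.single_same]
    have : (C.K 0).d k (k + 1) z.1 = 0 := z.2
    rw [this, smul_zero]
  refine ⟨k.toNat + 2, G, hanti, eq_top_iff.2 fun ξ _ => ?_, eq_bot_iff.2 fun ξ hξ => ?_, ?_, fun p => ?_⟩
  · obtain ⟨z, rfl⟩ := hΦs ⊤ ξ
    exact ⟨⟨_, hcorner z⟩, congrArg (Φ ⊤) (Subtype.ext (C.single_same _ _ _))⟩
  · obtain ⟨T, rfl⟩ := hξ
    have hDT : C.D T.1 = 0 := funext fun p => funext fun q => by
      by_cases hp : p < k.toNat + 2 + 1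
      · exact T.2.2 p q hp
      by_cases hq : q < 0
      · exact C.eq_zero_of_neg _ p hq
      · exact eq_zero_of_off (C.D_mem T.2.1) (by omega)
    obtain ⟨τ, -, hτ⟩ := hex k T.1 T.2.1 hDT
    refine (Submodule.mem_bot ℤ).2 ((hΦk ⊤ _).2 ⟨τ 0 (k - 1), ?_⟩)
    exact (C.D_zero τ k).symm.trans (congrFun (congrFun hτ 0) k)
  · -- the first step
    have hk : ∀ i : ι, U i ≤ inter U (fun _ : Fin 1 => i) := fun i => le_iInf fun _ => le_rfl
    apply le_antisymm
    · intro ξ hξ
      obtain ⟨T, rfl⟩ := hξ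
      refine (Submodule.mem_iInf _).2 fun i => ?_
      have hz : dSec M k (k + 1) (U i) ((M.X k).obj.map (homOfLE le_top).op (T.1 0 k)) = 0 := by
        refine (nat_res _ (M.d k (k + 1)).hom (le_top : U i ≤ ⊤) (T.1 0 k)).symm.trans ?_
        exact (congrArg _ (MT_top T)).trans (map_zero _)
      show CohCx.HDUres K₀ n (homOfLE le_top) (Φ ⊤ (topComp U M k 1 T)) = 0
      rw [hΦn ⊤ (U i) le_top _ ⟨_, hz⟩ rfl, hΦk]
      have h1 : C.D T.1 1 k = 0 := T.2.2 1 k (by omega)
      rw [Cols.D_succ, Units.smul_def] at h1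
      let w : (M.X (k - 1)).obj.obj (op (inter U fun _ : Fin 1 => i)) := T.1 1 (k - 1) fun _ : Fin 1 => i
      refine ⟨QCohBase.res _ (hk i) (-((((-((0 + 1 : ℕ) : ℤ)).negOnePow : ℤˣ) : ℤ) • w)), ?_⟩
      have h2 : QCohBase.res (M.X k).obj (le_top : inter U (fun _ : Fin 1 => i) ≤ ⊤) (T.1 0 k) +
          (((-((0 + 1 : ℕ) : ℤ)).negOnePow : ℤˣ) : ℤ) • dSec M (k - 1) k _ w = 0 := congrFun h1 fun _ => i
      refine (nat_res _ (M.d (k - 1) k).hom (hk i) _).symm.trans ?_
      refine (congrArg (QCohBase.res (M.X k).obj (hk i))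
        (show dSec M (k - 1) k _ (-((((-((0 + 1 : ℕ) : ℤ)).negOnePow : ℤˣ) : ℤ) • w)) =
            QCohBase.res (M.X k).obj (le_top : inter U (fun _ : Fin 1 => i) ≤ ⊤) (T.1 0 k) by
          rw [map_neg, map_zsmul, ← eq_neg_of_add_eq_zero_left h2])).trans ?_
      exact QCohBase.res_res _ _ _ _
    · intro ξ hξ
      obtain ⟨z, rfl⟩ := hΦs ⊤ ξ
      have hw : ∀ i, ∃ w, dSec M (k - 1) k (U i) w = (M.X k).obj.map (homOfLE le_top).op z.1 := fun i => by
        have hz : dSec M k (k + 1) (U i) ((M.X k).obj.map (homOfLE le_top).op z.1) = 0 := by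
          refine (nat_res _ (M.d k (k + 1)).hom (le_top : U i ≤ ⊤) z.1).symm.trans ?_
          exact (congrArg _ (show dSec M k (k + 1) ⊤ z.1 = 0 from z.2)).trans (map_zero _)
        exact (hΦk (U i) ⟨_, hz⟩).1 ((hΦn ⊤ (U i) le_top z ⟨_, hz⟩ rfl).symm.trans
          ((Submodule.mem_iInf _).1 hξ i))
      choose w hw using hw
      have hc : ∀ c : Fin 1 → ι, inter U c ≤ U (c 0) := fun c => iInf_le _ 0
      let η : (C.K 1).X (k - 1) := fun c : Fin 1 → ι => QCohBase.res (M.X (k - 1)).obj (hc c) (w (c 0))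
      let s : ℤ := (((-((0 + 1 : ℕ) : ℤ)).negOnePow : ℤˣ) : ℤ)
      have h0 := hcorner z
      let T := C.single 0 k z.1 - s • C.single 1 (k - 1) η
      have hT : T ∈ MT U M k 1 := by
        have h1 : C.single 1 (k - 1) η ∈ C.sub ⊤ k := C.single_mem (by push_cast; omega) _
        refine AddSubgroup.mem_inf.2 ⟨sub_mem h0.1 (zsmul_mem h1 s), AddSubgroup.mem_comap.2 ?_⟩
        refine low_succ ?_ (C.D_mem (sub_mem h0.1 (zsmul_mem h1 s))) k (by push_cast; omega) ?_
        · show C.D T ∈ _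
          rw [map_sub, map_zsmul]
          exact sub_mem h0.2 (zsmul_mem (D_low (single_low le_rfl _ _)) s)
        · funext c
          show C.D T 1 k c = 0
          rw [Cols.D_succ, Units.smul_def]
          have e0 : T 0 k = z.1 := by
            show C.single 0 k z.1 0 k - s • C.single 1 (k - 1) η 0 k = z.1
            rw [C.single_same, C.single_of_ne η (Or.inl (by omega)), smul_zero, sub_zero]
          have e1 : T 1 (k - 1) = -(s • η) := by
            show C.single 0 k z.1 1 (k - 1) - s • C.single 1 (k - 1) η 1 (k - 1) = -(s • η)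
            rw [C.single_same, C.single_of_ne (p := 0) (p' := 1) z.1 (Or.inl (by omega)), zero_sub]
          rw [e0, e1, map_neg, map_zsmul, smul_neg, smul_smul,
            show s * s = 1 by simp [s, ← Units.val_mul, Int.units_mul_self], one_smul, ← sub_eq_add_neg]
          show QCohBase.res (M.X k).obj (le_top : inter U c ≤ ⊤) z.1 -
            dSec M (k - 1) k (inter U c) (QCohBase.res (M.X (k - 1)).obj (hc c) (w (c 0))) = 0
          refine sub_eq_zero.2 (((QCohBase.res_res _ (le_top : U (c 0) ≤ ⊤) (hc c) z.1).symm.trans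
            (congrArg _ (hw (c 0)).symm)).trans (nat_res _ (M.d (k - 1) k).hom (hc c) (w (c 0))))
      refine ⟨⟨T, hT⟩, congrArg (Φ ⊤) (Subtype.ext ?_)⟩
      show C.single 0 k z.1 0 k - s • C.single 1 (k - 1) η 0 k = z.1
      rw [C.single_same, C.single_of_ne η (Or.inl (by omega)), smul_zero, sub_zero]
  · -- the graded pieces
    let q : ℤ := k - p
    let P := CohCx.HDUPresheaf K₀ (n - p)
    obtain ⟨Θ, hΘs, hΘk, hΘn⟩ := exists_cls (m := n - p) M 0 hinj e q (by omega)
    let y : MT U M k p → ∀ c : Fin (p + 1) → ι, (dSec M q (q + 1) (inter U c)).ker := fun T c =>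
      ⟨C.D T.1 (p + 1) q c, leading_closed T q c⟩
    have hδ : ∀ (p' : ℕ) (η : ∀ c : Fin (p' + 1) → ι, (dSec M q (q + 1) (inter U c)).ker) (c : Fin (p' + 2) → ι),
        ∃ ζ : (dSec M q (q + 1) (inter U c)).ker, ζ.1 = dCech U (M.X q).obj p' (fun c => (η c).1) c ∧
          Θ _ ζ = dCech U P p' (fun c => Θ _ (η c)) c := fun p' η c => by
      have hz : ∀ l : Fin (p' + 2), dSec M q (q + 1) (inter U c)
          (QCohBase.res (M.X q).obj (inter_comp_le U c l.succAbove) (η (c ∘ l.succAbove)).1) = 0 := fun l => by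
        refine (nat_res _ (M.d q (q + 1)).hom (inter_comp_le U c l.succAbove) _).symm.trans ?_
        exact (congrArg _ (show dSec M q (q + 1) _ (η (c ∘ l.succAbove)).1 = 0 from (η _).2)).trans (map_zero _)
      refine ⟨∑ l : Fin (p' + 2), ((-1 : ℤ) ^ (l : ℕ)) •
        (⟨_, hz l⟩ : (dSec M q (q + 1) (inter U c)).ker), ?_, ?_⟩
      · rw [AddSubgroup.val_finsetSum]
        rfl
      · rw [map_sum]
        refine Finset.sum_congr rfl fun l _ => ?_
        rw [map_zsmul]
        exact congrArg ((-1 : ℤ) ^ (l : ℕ) • ·)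
          (hΘn _ _ (inter_comp_le U c l.succAbove) (η (c ∘ l.succAbove)) ⟨_, hz l⟩ rfl).symm
    let Yh : MT U M k p →+ (cech U P).X p := AddMonoidHom.mk' (fun T => fun c => Θ _ (y T c))
      fun S T => funext fun c => by
        show Θ _ (y (S + T) c) = Θ _ (y S c) + Θ _ (y T c)
        rw [← map_add]
        refine congrArg _ (Subtype.ext ?_)
        show C.D (S.1 + T.1) (p + 1) q c = C.D S.1 (p + 1) q c + C.D T.1 (p + 1) q c
        rw [map_add]
        rfl
    have hYd : ∀ T, (cech U P).d p (p + 1) (Yh T) = 0 := fun T => by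
      refine (cech_d_apply U P p _).trans (funext fun c => ?_)
      obtain ⟨ζ, hζ, e⟩ := hδ p (y T) c
      refine e.symm.trans ((hΘk _ ζ).2 ?_)
      have h2 : C.D (C.D T.1) (p + 1 + 1) q = 0 := by rw [C.D_D]; rfl
      rw [Cols.D_succ, Units.smul_def] at h2
      have h3 : dCech U (M.X q).obj p (fun c => (y T c).1) c +
          (((-((p + 1 + 1 : ℕ) : ℤ)).negOnePow : ℤˣ) : ℤ) •
            dSec M (q - 1) q (inter U c) (C.D T.1 (p + 1 + 1) (q - 1) c) = 0 := congrFun h2 c
      refine ⟨-((((-((p + 1 + 1 : ℕ) : ℤ)).negOnePow : ℤˣ) : ℤ) • C.D T.1 (p + 1 + 1) (q - 1) c), ?_⟩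
      rw [map_neg, map_zsmul, hζ]
      exact (eq_neg_of_add_eq_zero_left h3).symm
    obtain ⟨cls, hcls⟩ := exists_cechClass U P p
    let Ψ : MT U M k p →+ CohB1.cechHTop U P p :=
      cls.comp (AddMonoidHom.mk' (fun T => (⟨Yh T, hYd T⟩ : ((cech U P).d p (p + 1)).hom.ker))
        fun S T => Subtype.ext (map_add Yh S T))
    refine isSubquotient_of_ker_le
      ((Submodule.mkQ (Submodule.comap (G p).subtype (G (p + 1)))).toAddMonoidHom.comp
        (AddMonoidHom.mk' (fun T => (⟨γ p T, T, rfl⟩ : G p)) fun S T => Subtype.ext (map_add (γ p) S T)))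
      (fun x => ?_) Ψ fun T hT => ?_
    · obtain ⟨⟨x, T, rfl⟩, rfl⟩ := Submodule.mkQ_surjective _ x
      exact ⟨T, rfl⟩
    -- a cycle with vanishing leading class moves one step down
    refine (Submodule.Quotient.mk_eq_zero _).2 ?_
    show γ p T ∈ G (p + 1)
    -- reduce the leading component to a boundary
    obtain ⟨T₁, hT₁, h0, w, hw⟩ : ∃ (T₁ : C.Pre) (_ : T₁ ∈ MT U M k p) (_ : T₁ 0 k = T.1 0 k)
        (w : ∀ c : Fin (p + 1) → ι, (M.X (q - 1)).obj.obj (op (inter U c))),
          ∀ c, dSec M (q - 1) q _ (w c) = C.D T₁ (p + 1) q c := by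
      rcases hcls _ hT with ⟨rfl, hY⟩ | ⟨p', rfl, x, hx⟩
      · choose w hw using fun c => (hΘk _ (y T c)).1 (congrFun hY c)
        exact ⟨T.1, T.2, rfl, w, hw⟩
      · choose η hη using fun c => hΘs (inter U c) (x c)
        let η' : (C.K (p' + 1)).X q := fun c : Fin (p' + 1) → ι => (η c).1
        have hw : ∀ c, ∃ w, dSec M (q - 1) q _ w = (y T c).1 - dCech U (M.X q).obj p' η' c := fun c => by
          obtain ⟨ζ, hζ, e⟩ := hδ p' η c
          have := (hΘk _ (y T c - ζ)).1 (by
            rw [map_sub, e, sub_eq_zero]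
            refine (congrFun ((cech_d_apply U P p' x).symm.trans hx) c).symm.trans ?_
            exact congrArg (fun v => dCech U P p' v c) (funext fun c => (hη c).symm))
          obtain ⟨w, hw⟩ := this
          exact ⟨w, hw.trans (congrArg ((y T c).1 - ·) hζ)⟩
        choose w hw using hw
        have hm : C.single (p' + 1) q η' ∈ C.sub ⊤ k := C.single_mem (by push_cast; omega) _
        have hl : C.D (C.single (p' + 1) q η') ∈ Low C (p' + 1 + 1) := by
          refine low_succ (D_low (single_low le_rfl _ _)) (C.D_mem hm) (q + 1) (by push_cast; omega) ?_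
          rw [D_at_low (single_low le_rfl _ _) q (q + 1) rfl, C.single_same]
          rw [show (C.K (p' + 1)).d q (q + 1) η' = 0 from funext fun c => (η c).2, smul_zero]
        refine ⟨T.1 - C.single (p' + 1) q η', AddSubgroup.mem_inf.2 ⟨sub_mem T.2.1 hm, AddSubgroup.mem_comap.2 ?_⟩,
          ?_, w, fun c => ?_⟩
        · show C.D (T.1 - C.single (p' + 1) q η') ∈ _
          rw [map_sub]
          exact sub_mem T.2.2 hl
        · show T.1 0 k - C.single (p' + 1) q η' 0 k = T.1 0 k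
          rw [C.single_of_ne η' (Or.inl (by omega)), sub_zero]
        · rw [hw c, map_sub]
          show _ = C.D T.1 (p' + 1 + 1) q c - C.D (C.single (p' + 1) q η') (p' + 1 + 1) q c
          refine congrArg (C.D T.1 (p' + 1 + 1) q c - ·) ?_
          rw [Cols.D_succ, C.single_same, C.single_of_ne η' (p' := p' + 1 + 1) (Or.inl (by omega)), map_zero,
            smul_zero, add_zero]
          rfl
    let w' : (C.K (p + 1)).X (q - 1) := fun c : Fin (p + 1) → ι => w c
    let s : ℤ := (((-((p + 1 : ℕ) : ℤ)).negOnePow : ℤˣ) : ℤ)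
    have hm : C.single (p + 1) (q - 1) w' ∈ C.sub ⊤ k := C.single_mem (by push_cast; omega) _
    let T₂ := T₁ - s • C.single (p + 1) (q - 1) w'
    have hT₂ : T₂ ∈ MT U M k (p + 1) := by
      refine AddSubgroup.mem_inf.2 ⟨sub_mem hT₁.1 (zsmul_mem hm s), AddSubgroup.mem_comap.2
        (low_succ ?_ (C.D_mem (sub_mem hT₁.1 (zsmul_mem hm s))) q (by push_cast; omega) ?_)⟩
      · show C.D T₂ ∈ _
        rw [map_sub, map_zsmul]
        exact sub_mem hT₁.2 (zsmul_mem (D_low (single_low le_rfl _ _)) s)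
      · funext c
        show C.D T₂ (p + 1) q c = 0
        rw [map_sub, map_zsmul]
        show C.D T₁ (p + 1) q c - (s • C.D (C.single (p + 1) (q - 1) w') (p + 1) q) c = 0
        rw [D_at_low (single_low le_rfl _ _) (q - 1) q (by omega), C.single_same, Units.smul_def, smul_smul,
          show s * s = 1 by simp [s, ← Units.val_mul, Int.units_mul_self], one_smul]
        exact sub_eq_zero.2 (hw c).symm
    refine ⟨⟨T₂, hT₂⟩, congrArg (Φ ⊤) (Subtype.ext ?_)⟩
    show T₁ 0 k - s • C.single (p + 1) (q - 1) w' 0 k = T.1 0 k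
    rw [C.single_of_ne w' (Or.inl (by omega)), smul_zero, sub_zero, h0]

end Groth.Agent.CechTotLib
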